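import Cfsg.Agent.Lib.Comp.Y5.Main
import Cfsg.Agent.Lib.Comp.Fi23.Simple
import Cfsg.Prelude.Def_Spor_M

/-! The arm relations of `Y₅₅₅` follow from the spider relation. -/

set_option maxRecDepth 100000

namespace Cfsg.Lib.Comp.Y5

open Cfsg.Spor Cfsg.Spor.Bimonster Subgroup

def rp (u : List ℕ) (n : ℕ) : List ℕ := (List.replicate n u).flatten

theorem ev_rp {Γ : Type*} [Monoid Γ] (γ : ℕ → Γ) (u : List ℕ) (n : ℕ) : ev γ (rp u n) = ev γ u ^ n := by
  induction n with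
  | zero => simp [rp, ev_nil]
  | succ n ih => rw [pow_succ', ← ih, ← ev_append]; rfl

def wA : List ℕ := [1, 2, 7, 9, 3, 8, 4]
def wB : List ℕ := [1, 2, 9, 7, 3, 10, 4]
def wC : List ℕ := [4, 3, 2, 1, 7, 8, 9]
def L3 : List ℕ := [1, 2, 3, 4, 7, 8, 9, 10]
def R3 : List (List ℕ × ℕ) :=
  (rp wA 9 ++ rp wB 9, 0) :: (rp wC 9 ++ rp wB 9, 0) :: (wB, 17) :: L3.map fun x => (rp wB 9 ++ [x], 1)

theorem cs3 : Cons.{0} iv T2_R R3 := cons_of_ord T2_ord nets_iv (nets_rel.mono (by decide +kernel)) sub_lb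
  (rels_of_relsB (k := 11) nets_ok (by norm_num) (by decide +kernel)) (by decide +kernel)

theorem c5 : Cons.{0} iv R [(6 :: rp wA 9, 0)] := cons_of_ord ord nets_iv nets_rel card.ge
  (rels_of_relsB (k := 11) nets_ok (by norm_num) (by decide +kernel)) (by decide +kernel)

theorem c23 : Cons.{0} Fi23.iv Fi23.R [([4, 5, 6, 7, 10, 8, 9, 3], 14)] :=
  cons_of_ord Fi23.ord Fi23.nets_iv Fi23.nets_rel Fi23.card.ge
    (rels_of_relsB (k := 15) Fi23.nets_ok (by norm_num) (by decide +kernel)) (by decide +kernel)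

variable {Γ : Type} [Group Γ]

/-- Value of a word in the nodes. -/
def E (S : Gen → Γ) (w : List Gen) : Γ := (w.map S).prod

/-- Letters `1, 2, …` read as the nodes `V`. -/
def gm (S : Gen → Γ) (V : List Gen) (x : ℕ) : Γ := if x = 0 then 1 else ((V[x - 1]?).map S).getD 1

def nd (V : List Gen) (x : ℕ) : Gen := V.getD (x - 1) .a

theorem gm_eq (S : Gen → Γ) {V : List Gen} {x : ℕ} (h : 0 < x ∧ x ≤ V.length) : gm S V x = S (nd V x) := by
  have : x - 1 < V.length := by omega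
  simp [gm, nd, h.1.ne', List.getD, List.getElem?_eq_getElem this]

theorem ev_gm (S : Gen → Γ) {V : List Gen} {u : List ℕ} (h : ∀ x ∈ u, 0 < x ∧ x ≤ V.length) :
    ev (gm S V) u = E S (u.map (nd V)) := by
  rw [ev_congr _ (γ' := fun x => S (nd V x)) fun x hx => gm_eq S (h x hx), E, List.map_map]; rfl

def Cox (S : Gen → Γ) : Prop := ∀ x y, (S x * S y) ^ coxLabel edges x y = 1

theorem Cox.sq {S : Gen → Γ} (h : Cox S) (x : Gen) : S x * S x = 1 := by
  have := h x x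
  rwa [coxLabel, if_pos rfl, pow_one] at this

theorem Cox.iv {S : Gen → Γ} (h : Cox S) (V : List Gen) : IvOK (gm S V) fun x => x := by
  refine ⟨if_pos rfl, fun x hx => ⟨hx, ?_⟩⟩
  rw [eq_inv_iff_mul_eq_one]
  unfold gm
  split_ifs
  · simp
  · cases V[x - 1]? with
    | none => simp
    | some y => exact h.sq y

theorem Cox.rels {S : Gen → Γ} (h : Cox S) {V : List Gen} {K : List (List Gen × ℕ)}
    (hK : ∀ k ∈ K, E S k.1 ^ (k.2 + 1) = 1) {R : List (List ℕ × ℕ)}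
    (hR : ∀ r ∈ R, (∀ x ∈ r.1, 0 < x ∧ x ≤ V.length) ∧ ((r.1.map (nd V), r.2) ∈ K ∨ (r.1.length = 1 ∧ r.2 = 1) ∨
      (r.1.length = 2 ∧ r.2 + 1 = coxLabel edges (nd V (r.1.getD 0 0)) (nd V (r.1.getD 1 0))))) :
    Rels (gm S V) R := by
  rintro ⟨u, e⟩ hr
  obtain ⟨h1, h2 | ⟨h2, h3⟩ | ⟨h2, h3⟩⟩ := hR _ hr
  · rw [ev_gm S h1]; exact hK _ h2
  · obtain ⟨x, rfl⟩ := List.length_eq_one_iff.1 h2
    rw [ev_gm S h1, h3, pow_two]; simpa [E] using h.sq _
  · obtain ⟨x, y, rfl⟩ := List.length_eq_two.1 h2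
    rw [ev_gm S h1, h3]; simpa [E] using h _ _

theorem comm_of_sq {c x : Γ} (h1 : c * c = 1) (h2 : x * x = 1) (h3 : (c * x) ^ 2 = 1) : Commute c x := by
  have e1 : c⁻¹ = c := inv_eq_of_mul_eq_one_right h1
  have e2 : x⁻¹ = x := inv_eq_of_mul_eq_one_right h2
  have e3 : (c * x)⁻¹ = c * x := inv_eq_of_mul_eq_one_right (by rw [← pow_two]; exact h3)
  rw [mul_inv_rev, e1, e2] at e3
  exact e3.symm

/-- Consequences in `Y₃₂₂`. -/
theorem y3 {γ : ℕ → Γ} (h1 : IvOK γ iv) (h2 : Rels γ T2_R) : ev γ wA ^ 9 = ev γ wB ^ 9 ∧ ev γ wC ^ 9 = ev γ wB ^ 9 ∧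
    ev γ wB ^ 9 * ev γ wB ^ 9 = 1 ∧ ∀ x ∈ L3, Commute (ev γ wB ^ 9) (γ x) := by
  have h := cs3 Γ γ h1 h2
  have a3 : ev γ wB ^ 9 * ev γ wB ^ 9 = 1 := by rw [← pow_add]; exact h (wB, 17) (by simp [R3])
  have a1 := h (rp wA 9 ++ rp wB 9, 0) (by simp [R3])
  have a2 := h (rp wC 9 ++ rp wB 9, 0) (by simp [R3])
  simp only [zero_add, pow_one, ev_append, ev_rp] at a1 a2
  refine ⟨mul_right_cancel (a1.trans a3.symm), mul_right_cancel (a2.trans a3.symm), a3, fun x hx => ?_⟩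
  have a4 := h (rp wB 9 ++ [x], 1) (by simp only [R3, List.mem_cons]; exact .inr (.inr (.inr (List.mem_map.2 ⟨x, hx, rfl⟩))))
  simp only [ev_append, ev_rp, ev_single] at a4
  refine comm_of_sq a3 ?_ a4
  have hx' : x < 64 := (by decide : ∀ x ∈ L3, x < 64) x hx
  exact mul_eq_one_iff_eq_inv.2 (h1.2 x hx').2

def V1 : List Gen := [.a, .b1, .c1, .d1, .e1, .f1, .b2, .c2, .b3, .c3]
def V3 : List Gen := [.a, .b3, .c3, .d3, .e3, .f3, .b1, .c1, .b2, .c2]
def VF : List Gen := [.d3, .c3, .b3, .a, .b1, .c1, .d1, .b2, .c2, .e1]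
def sp1 : List Gen := [.a, .b1, .c1, .a, .b2, .c2, .a, .b3, .c3]
def sp3 : List Gen := [.a, .b3, .c3, .a, .b1, .c1, .a, .b2, .c2]

theorem pow_swap {x y : Γ} {n : ℕ} (h : (x * y) ^ n = 1) : (y * x) ^ n = 1 := by
  have : y * x = x⁻¹ * (x * y) * x⁻¹⁻¹ := by group
  rw [this, conj_pow, h]; group

theorem sp_rot {S : Gen → Γ} (h : E S sp1 ^ 10 = 1) : E S sp3 ^ 10 = 1 := by
  have := pow_swap (x := E S (sp1.take 6)) (y := E S (sp1.drop 6)) (n := 10) (by
    rw [← h]; simp [E, sp1, mul_assoc])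
  rw [← this]; simp [E, sp1, sp3, mul_assoc]

theorem Cox.comm {S : Gen → Γ} (h : Cox S) {x : Gen} {w : List Gen} (hw : ∀ y ∈ w, coxLabel edges y x = 2) :
    Commute (E S w) (S x) := by
  refine Commute.list_prod_left _ _ fun z hz => ?_
  obtain ⟨y, hy, rfl⟩ := List.mem_map.1 hz
  exact comm_of_sq (h.sq y) (h.sq x) (by rw [← hw y hy]; exact h y x)

theorem z_one {S : Gen → Γ} (h : Cox S) (hs : E S sp1 ^ 10 = 1) (π : Γ →* ℤˣ) (hπ : ∀ x, π (S x) = -1) :
    E S [.a, .b1, .c1, .d1, .e1, .b2, .c2, .b3] ^ 15 = 1 := by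
  obtain ⟨-, a2, a3, a4⟩ := y3 (h.iv V3) (h.rels (V := V3) (K := [(sp3, 9)]) (by simpa using sp_rot hs) (by decide +kernel))
  rw [ev_gm S (by decide)] at a3 a4
  rw [ev_gm S (by decide), ev_gm S (by decide)] at a2
  set c := E S (wB.map (nd V3)) ^ 9 with hc
  have hm : ∀ y ∈ VF, S y ∈ centralizer {c} := by
    have k1 : ∀ x ∈ L3, S (nd V3 x) ∈ centralizer {c} := fun x hx => mem_centralizer_singleton_iff.2 (by
      have := a4 x hx
      rw [gm_eq S ((by decide : ∀ x ∈ L3, 0 < x ∧ x ≤ V3.length) x hx)] at this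
      exact this.symm)
    have k2 : ∀ y, (∀ z ∈ wB.map (nd V3), coxLabel edges z y = 2) → S y ∈ centralizer {c} := fun y hy =>
      mem_centralizer_singleton_iff.2 ((h.comm hy).pow_left 9).symm
    simp only [VF, List.forall_mem_cons]
    exact ⟨k1 4 (by decide), k1 3 (by decide), k1 2 (by decide), k1 1 (by decide), k1 7 (by decide), k1 8 (by decide),
      k2 _ (by decide), k1 9 (by decide), k1 10 (by decide), k2 _ (by decide), by simp⟩
  have hg : ∀ x, gm S VF x ∈ centralizer {c} := fun x => by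
    unfold gm
    split_ifs
    · exact one_mem _
    · cases e : VF[x - 1]? with
      | none => exact one_mem _
      | some y => exact hm y (List.mem_of_getElem? e)
  let H := centralizer ({c} : Set Γ)
  let c' : H := ⟨c, mem_centralizer_singleton_iff.2 rfl⟩
  have hN : (zpowers c').Normal := ⟨fun n hn g => by
    obtain ⟨k, rfl⟩ := hn
    have : Commute g c' := Subtype.ext (mem_centralizer_singleton_iff.1 g.2)
    show g * c' ^ k * g⁻¹ ∈ _
    rw [(this.zpow_right k).eq, mul_inv_cancel_right]; exact zpow_mem (mem_zpowers _) _⟩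
  let γ : ℕ → H := fun x => ⟨gm S VF x, hg x⟩
  let q := QuotientGroup.mk' (zpowers c')
  have ee : ∀ (u : List ℕ) (n : ℕ), ((ev γ u ^ n : H) : Γ) = ev (gm S VF) u ^ n := fun u n => by
    rw [coe_pow, show ((ev γ u : H) : Γ) = _ from ev_map γ H.subtype u]; rfl
  have i1 : IvOK (fun x => q (γ x)) Fi23.iv := by
    refine ⟨by rw [← map_one q]; congr 1, fun x hx => ⟨hx, ?_⟩⟩
    rw [← map_inv]; exact congrArg q (Subtype.ext ((h.iv VF).2 x hx).2 : γ x = (γ x)⁻¹)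
  have r1 := h.rels (V := VF) (K := [(sp3, 9)]) (by simpa using sp_rot hs) (R := Fi23.R.dropLast) (by decide +kernel)
  have i2 : Rels (fun x => q (γ x)) Fi23.R := fun r hr => by
    rw [← ev_map, ← map_pow, QuotientGroup.mk'_apply, QuotientGroup.eq_one_iff]
    have : r ∈ Fi23.R.dropLast ∨ r = ([1, 2, 3, 4, 5, 6, 8], 8) := by revert r; decide +kernel
    rcases this with hr | rfl
    · rw [show ev γ r.1 ^ (r.2 + 1) = 1 from Subtype.ext ((ee _ _).trans (r1 r hr))]; exact one_mem _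
    · rw [show ev γ [1, 2, 3, 4, 5, 6, 8] ^ (8 + 1) = c' from Subtype.ext ((ee _ _).trans (by
        rw [ev_gm S (by decide)]; exact a2))]
      exact mem_zpowers _
  have k := c23 _ _ i1 i2 _ List.mem_cons_self
  rw [← ev_map, ← map_pow, QuotientGroup.mk'_apply, QuotientGroup.eq_one_iff] at k
  obtain ⟨n, hn⟩ := k
  have k2 : c ^ n = E S [.a, .b1, .c1, .d1, .e1, .b2, .c2, .b3] ^ 15 := by
    have := (congrArg Subtype.val hn).trans (ee _ _)
    rwa [ev_gm S (by decide)] at this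
  have p1 : π c = -1 := by simp [hc, E, wB, hπ]; decide
  have p2 : π (c ^ n) = 1 := by rw [k2]; simp [E, hπ]
  rw [map_zpow, p1] at p2
  obtain ⟨m, rfl⟩ | ⟨m, rfl⟩ := Int.even_or_odd n
  · rw [← k2, ← two_mul, zpow_mul, zpow_two, a3, one_zpow]
  · rw [(Odd.neg_one_zpow ⟨m, rfl⟩ : (-1 : ℤˣ) ^ (2 * m + 1) = -1)] at p2
    exact absurd p2 (by decide)

theorem arm {S : Gen → Γ} (h : Cox S) (hs : E S sp1 ^ 10 = 1) (π : Γ →* ℤˣ) (hπ : ∀ x, π (S x) = -1) :
    S .f1 = E S [.a, .b1, .b2, .b3, .c1, .c2, .d1] ^ 9 ∧ S .f1 = E S [.a, .b1, .b3, .b2, .c1, .c3, .d1] ^ 9 := by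
  obtain ⟨a1, -, a3, -⟩ := y3 (h.iv V1) (h.rels (V := V1) (K := [(sp1, 9)]) (by simpa using hs) (by decide +kernel))
  have k := c5 _ _ (h.iv V1) (h.rels (V := V1) (K := [(sp1, 9), ([.a, .b1, .c1, .d1, .e1, .b2, .c2, .b3], 14)])
    (by simpa using ⟨hs, z_one h hs π hπ⟩) (by decide +kernel)) _ List.mem_cons_self
  rw [zero_add, pow_one, ev_cons, ev_rp, a1, gm_eq S (by decide)] at k
  have k1 := mul_right_cancel (k.trans a3.symm)
  refine ⟨?_, ?_⟩
  · rw [← a1, ev_gm S (by decide)] at k1; exact k1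
  · rw [ev_gm S (by decide)] at k1; exact k1

def rot : Gen → Gen
  | .a => .a | .b1 => .b2 | .c1 => .c2 | .d1 => .d2 | .e1 => .e2 | .f1 => .f2
  | .b2 => .b3 | .c2 => .c3 | .d2 => .d3 | .e2 => .e3 | .f2 => .f3
  | .b3 => .b1 | .c3 => .c1 | .d3 => .d1 | .e3 => .e1 | .f3 => .f1

theorem Cox.rot {S : Gen → Γ} (h : Cox S) : Cox (S ∘ rot) := fun x y => by
  have : coxLabel edges x y = coxLabel edges (Y5.rot x) (Y5.rot y) := by cases x <;> cases y <;> decide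
  rw [this]; exact h _ _

theorem sp_rot' {S : Gen → Γ} (h : E S sp1 ^ 10 = 1) : E (S ∘ rot) sp1 ^ 10 = 1 := by
  have := pow_swap (x := E S (sp1.take 3)) (y := E S (sp1.drop 3)) (n := 10) (by
    rw [← h]; simp [E, sp1, mul_assoc])
  rw [← this]; simp [E, sp1, rot, mul_assoc]

end Cfsg.Lib.Comp.Y5
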