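import Cfsg.Agent.Lib.Comp.Y5.Base

set_option maxRecDepth 100000
set_option Elab.async false

namespace Cfsg.Lib.Comp.Y5

universe u

noncomputable def T0_R : List (List ℕ × ℕ) := (apd [([1],1),
 ([2],1),
 ([3],1),
 ([4],1),
 ([5],1),
 ([6],1),
 ([7],1),
 ([8],1),
 ([9],1),
 ([10],1),
 ([1,2],2),
 ([1,3],1),
 ([1,4],1),
 ([1,5],1),
 ([1,6],1),
 ([1,7],2),
 ([1,8],1),
 ([1,9],2),
 ([1,10],1),
 ([2,3],2),
 ([2,4],1),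
 ([2,5],1),
 ([2,6],1),
 ([2,7],1),
 ([2,8],1),
 ([2,9],1),
 ([2,10],1),
 ([3,4],2),
 ([3,5],1),
 ([3,6],1),
 ([3,7],1),
 ([3,8],1),
 ([3,9],1),
 ([3,10],1),
 ([4,5],2),
 ([4,6],1),
 ([4,7],1),
 ([4,8],1),
 ([4,9],1),
 ([4,10],1)]
 [([5,6],2),
 ([5,7],1),
 ([5,8],1),
 ([5,9],1),
 ([5,10],1),
 ([6,7],1),
 ([6,8],1),
 ([6,9],1),
 ([6,10],1),
 ([7,8],2),
 ([7,9],1),
 ([7,10],1),
 ([8,9],1),
 ([8,10],1),
 ([9,10],2),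
 ([1,2,3,1,7,8,1,9,10],9),
 ([1,2,3,4,5,7,8,9],14)])

noncomputable def T0_n : List Net := []

theorem T0_n_ok : NetsOK 1 T0_n := netsOK_of (by decide +kernel)

theorem T0_n_rel : Rels (gp T0_n) T0_R := rels_of_relsB (k := 1) T0_n_ok (by norm_num) (by decide +kernel)

end Cfsg.Lib.Comp.Y5
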