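import Cfsg.Agent.Lib.Comp.Y5.T010

set_option maxRecDepth 100000
set_option Elab.async false

namespace Cfsg.Lib.Comp.Y5

universe u

theorem T0_fin : finB 1 T0_n [1,2,3,4,5,6,7,8,9,10] 1 (runH 1 T0_n (tbk 1 4 prs1 T0_n 2) iv T0_R [] ([1,2,3,4,5,7,8,9,10].map fun x => [x]) 0 []
  []
  T0_K9) = true := by decide +kernel

theorem T0_idx : Idx.{u} iv (T0_R ++ []) ([1,2,3,4,5,7,8,9,10].map fun x => [x]) [1,2,3,4,5,6,7,8,9,10] 1 :=
  Reach.idx T0_n_ok (reach_runH T0_n_ok (tbk_eq tr1 (by norm_num) (by norm_num) (by norm_num) T0_n_ok) T0_n_rel T0_K9_reach _ _) T0_fin (by norm_num)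

end Cfsg.Lib.Comp.Y5
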