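import Cfsg.Agent.Lib.Comp.Y5.T08

set_option maxRecDepth 100000
set_option Elab.async false

namespace Cfsg.Lib.Comp.Y5

universe u

noncomputable def T0_K8 : ℕ := (nat_lit 0x7be)

theorem T0_K8_eq : Nat.beq (runH 1 T0_n (tbk 1 4 prs1 T0_n 2) iv T0_R [] ([1,2,3,4,5,7,8,9,10].map fun x => [x]) 0 []
  [33]
  T0_K7) T0_K8 = true := by decide +kernel

theorem T0_K8_reach : Reach.{u} 1 T0_n iv (T0_R ++ []) ([1,2,3,4,5,7,8,9,10].map fun x => [x]) 0 T0_K8 :=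
  Reach.of_beq (reach_runH T0_n_ok (tbk_eq tr1 (by norm_num) (by norm_num) (by norm_num) T0_n_ok) T0_n_rel T0_K7_reach _ _) T0_K8_eq

end Cfsg.Lib.Comp.Y5
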