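import Cfsg.Agent.Lib.Comp.Y5.Base

set_option maxRecDepth 100000
set_option Elab.async false

namespace Cfsg.Lib.Comp.Y5

universe u

noncomputable def T3_R : List (List ℕ × ℕ) := [([1],1),
 ([2],1),
 ([3],1),
 ([4],1),
 ([7],1),
 ([8],1),
 ([9],1),
 ([1,2],2),
 ([1,3],1),
 ([1,4],1),
 ([1,7],2),
 ([1,8],1),
 ([1,9],2),
 ([2,3],2),
 ([2,4],1),
 ([2,7],1),
 ([2,8],1),
 ([2,9],1),
 ([3,4],2),
 ([3,7],1),
 ([3,8],1),
 ([3,9],1),
 ([4,7],1),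
 ([4,8],1),
 ([4,9],1),
 ([7,8],2),
 ([7,9],1),
 ([8,9],1)]

noncomputable def T3_n_1 : Net :=
 (Net.cons 32 (nat_lit 0x40000000)
 (Net.cons 16 (nat_lit 0xc00000000000)
 (Net.cons 8 (nat_lit 0x4000400000)
 (Net.cons 4 (nat_lit 0x8080004000008)
 (Net.cons 2 (nat_lit 0x20002002200020)
 (Net.cons 1 (nat_lit 0x4010004504100010)
 (Net.cons 2 (nat_lit 0x20202302200320)
 (Net.cons 4 (nat_lit 0x8080604020008)
 (Net.cons 8 (nat_lit 0x4000400000)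
 (Net.cons 16 (nat_lit 0xc00000000000)
 (Net.cons 32 (nat_lit 0x40000000)
 Net.nil)))))))))))

noncomputable def T3_n_2 : Net :=
 (Net.cons 32 (nat_lit 0x20000000)
 (Net.cons 16 (nat_lit 0x200000006800)
 (Net.cons 8 (nat_lit 0xc00000)
 (Net.cons 4 (nat_lit 0xa0206040400)
 (Net.cons 2 (nat_lit 0x20000)
 (Net.cons 1 (nat_lit 0x10010150040404)
 (Net.cons 2 (nat_lit 0x300002021000)
 (Net.cons 4 (nat_lit 0xa0206040400)
 (Net.cons 8 (nat_lit 0x2100c00000)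
 (Net.cons 16 (nat_lit 0x200000006800)
 (Net.cons 32 (nat_lit 0x20000000)
 Net.nil)))))))))))

noncomputable def T3_n_3 : Net :=
 (Net.cons 16 (nat_lit 0x2000)
 (Net.cons 8 (nat_lit 0x4000b20000)
 (Net.cons 4 (nat_lit 0x40808020000)
 (Net.cons 2 (nat_lit 0x20020020202002)
 (Net.cons 1 (nat_lit 0x40040011111004)
 (Net.cons 2 (nat_lit 0x20122102202002)
 (Net.cons 4 (nat_lit 0x40803020000)
 (Net.cons 8 (nat_lit 0x4000b20000)
 (Net.cons 16 (nat_lit 0x2000)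
 Net.nil)))))))))

noncomputable def T3_n_4 : Net :=
 (Net.cons 32 (nat_lit 0x40000000)
 (Net.cons 16 (nat_lit 0x400000008000)
 (Net.cons 8 (nat_lit 0xd000800000)
 (Net.cons 4 (nat_lit 0x804040c0000)
 (Net.cons 2 (nat_lit 0x20000)
 (Net.cons 1 (nat_lit 0x40040000410001)
 (Net.cons 2 (nat_lit 0x100332130000)
 (Net.cons 4 (nat_lit 0x8040e010000)
 (Net.cons 8 (nat_lit 0xd000800000)
 (Net.cons 16 (nat_lit 0x400000008000)
 (Net.cons 32 (nat_lit 0x40000000)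
 Net.nil)))))))))))

noncomputable def T3_n_7 : Net :=
 (Net.cons 16 (nat_lit 0x800000002000)
 (Net.cons 8 (nat_lit 0x80002000200048)
 (Net.cons 4 (nat_lit 0xc000a00080408)
 (Net.cons 2 (nat_lit 0x20000000000)
 (Net.cons 1 (nat_lit 0x40015000400050)
 (Net.cons 2 (nat_lit 0x2020000000100)
 (Net.cons 4 (nat_lit 0xc020a000b0408)
 (Net.cons 8 (nat_lit 0x80002000200048)
 (Net.cons 16 (nat_lit 0x800000002000)
 Net.nil)))))))))

noncomputable def T3_n_8 : Net :=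
 (Net.cons 16 (nat_lit 0x8000)
 (Net.cons 8 (nat_lit 0x4800800000)
 (Net.cons 4 (nat_lit 0xa04000c0000)
 (Net.cons 2 (nat_lit 0x2000020000)
 (Net.cons 1 (nat_lit 0x101400411500)
 (Net.cons 2 (nat_lit 0x1022000020020)
 (Net.cons 4 (nat_lit 0xe04000c0000)
 (Net.cons 8 (nat_lit 0x4800800000)
 (Net.cons 16 (nat_lit 0x8000)
 Net.nil)))))))))

noncomputable def T3_n_9 : Net :=
 (Net.cons 32 (nat_lit 0x90000000)
 (Net.cons 16 (nat_lit 0x300000000000)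
 (Net.cons 8 (nat_lit 0xa0009000a200a0)
 (Net.cons 4 (nat_lit 0xa000802000200)
 (Net.cons 1 (nat_lit 0x5000401000100)
 (Net.cons 2 (nat_lit 0x20000000002010)
 (Net.cons 4 (nat_lit 0xa00090e020200)
 (Net.cons 8 (nat_lit 0xa0009000a200a0)
 (Net.cons 16 (nat_lit 0xb00400000000)
 (Net.cons 32 (nat_lit 0x90000000)
 Net.nil))))))))))

noncomputable def T3_n : List Net := [Net.nil,
 T3_n_1,
 T3_n_2,
 T3_n_3,
 T3_n_4,
 Net.nil,
 Net.nil,
 T3_n_7,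
 T3_n_8,
 T3_n_9]

theorem T3_n_ok : NetsOK 64 T3_n := netsOK_of (by decide +kernel)

theorem T3_n_rel : Rels (gp T3_n) T3_R := rels_of_relsB (k := 6) T3_n_ok (by norm_num) (by decide +kernel)

theorem T3_fin : finB 64 T3_n [1,2,3,4,7,8,9] 56 (runH 64 T3_n (fun x p => ptInv (nth Net.nil T3_n x) p) iv T3_R [] ([1,2,3,7,8,9].map fun x => [x]) 0 []
  (apd [1,5,9,13,17,21,0,4,8,12,16,20,24,36,44,56,60,64,68,72,76,84,88,92,96,104,108,32,36,44,52,56,64,76,80,84,92,96,28,32,36,60,64,68,76,80,84,88,92,96,28,32,36,40,44,48,52,56,60,68]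
 (apd [72,76,84,88,96,100,104,108,28,32,36,40,44,48,52,60,68,76,84,88,96,100,104,108,28,40,44,48,52,60,64,68,72,76,80,84,96,100,104,108,28,32,36,40,44,56,60,64,76,80,84,88,92,100,32,36,40,48,52,56]
 [68,84,88,96,36,56,72]))
  (defsH 64 T3_n (ones 704) [4,3,2,1,7,8,9,1,2,3,4,7,1,2,3,9,1,2,7,8,1,7,9,1,2,3,4] (Nat.shiftLeft 1 0) 0)) = true := by decide +kernel

theorem T3_idx : Idx.{u} iv (T3_R ++ []) ([1,2,3,7,8,9].map fun x => [x]) [1,2,3,4,7,8,9] 56 :=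
  Reach.idx T3_n_ok (reach_runH T3_n_ok (fun x p _ => ptInv_gp T3_n_ok x p) T3_n_rel (reach_defsH T3_n_ok _ _ _ _ _ _) _ _) T3_fin (by norm_num)

end Cfsg.Lib.Comp.Y5
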