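import Cfsg.Agent.Lib.Comp.Y5.Base

set_option maxRecDepth 100000
set_option Elab.async false

namespace Cfsg.Lib.Comp.Y5

universe u

noncomputable def T4_R : List (List ℕ × ℕ) := [([1],1),
 ([2],1),
 ([3],1),
 ([7],1),
 ([8],1),
 ([9],1),
 ([1,2],2),
 ([1,3],1),
 ([1,7],2),
 ([1,8],1),
 ([1,9],2),
 ([2,3],2),
 ([2,7],1),
 ([2,8],1),
 ([2,9],1),
 ([3,7],1),
 ([3,8],1),
 ([3,9],1),
 ([7,8],2),
 ([7,9],1),
 ([8,9],1)]

noncomputable def T4_n_1 : Net :=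
 (Net.cons 8 (nat_lit 0x800080)
 (Net.cons 4 (nat_lit 0x8000800)
 (Net.cons 2 (nat_lit 0x2000000)
 (Net.cons 1 (nat_lit 0x1000004)
 (Net.cons 2 (nat_lit 0x2030300)
 (Net.cons 4 (nat_lit 0x8000800)
 (Net.cons 8 (nat_lit 0x800080)
 Net.nil)))))))

noncomputable def T4_n_2 : Net :=
 (Net.cons 16 (nat_lit 0x2000)
 (Net.cons 8 (nat_lit 0x280000)
 (Net.cons 4 (nat_lit 0x8020400)
 (Net.cons 2 (nat_lit 0x2)
 (Net.cons 1 (nat_lit 0x410004)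
 (Net.cons 2 (nat_lit 0x20001202)
 (Net.cons 4 (nat_lit 0x8020400)
 (Net.cons 8 (nat_lit 0x280000)
 (Net.cons 16 (nat_lit 0x2000)
 Net.nil)))))))))

noncomputable def T4_n_3 : Net :=
 (Net.cons 4 (nat_lit 0x400)
 (Net.cons 2 (nat_lit 0x2000)
 (Net.cons 1 (nat_lit 0x51401)
 (Net.cons 2 (nat_lit 0x102000)
 (Net.cons 4 (nat_lit 0x400)
 Net.nil)))))

noncomputable def T4_n_7 : Net :=
 (Net.cons 16 (nat_lit 0x9000)
 (Net.cons 8 (nat_lit 0x900000)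
 (Net.cons 4 (nat_lit 0x8040a)
 (Net.cons 2 (nat_lit 0x2020)
 (Net.cons 1 (nat_lit 0x1004010)
 (Net.cons 2 (nat_lit 0x22022)
 (Net.cons 4 (nat_lit 0x9040a)
 (Net.cons 8 (nat_lit 0x900000)
 (Net.cons 16 (nat_lit 0x9000)
 Net.nil)))))))))

noncomputable def T4_n_8 : Net :=
 (Net.cons 8 (nat_lit 0xd8)
 (Net.cons 4 (nat_lit 0x80c)
 (Net.cons 2 (nat_lit 0x2000020)
 (Net.cons 1 (nat_lit 0x4000514)
 (Net.cons 2 (nat_lit 0x2001320)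
 (Net.cons 4 (nat_lit 0x80c)
 (Net.cons 8 (nat_lit 0xd8)
 Net.nil)))))))

noncomputable def T4_n_9 : Net :=
 (Net.cons 8 (nat_lit 0x40)
 (Net.cons 4 (nat_lit 0x40402)
 (Net.cons 2 (nat_lit 0x20)
 (Net.cons 1 (nat_lit 0x40010)
 (Net.cons 2 (nat_lit 0x300122)
 (Net.cons 4 (nat_lit 0x40402)
 (Net.cons 8 (nat_lit 0x40)
 Net.nil)))))))

noncomputable def T4_n : List Net := [Net.nil,
 T4_n_1,
 T4_n_2,
 T4_n_3,
 Net.nil,
 Net.nil,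
 Net.nil,
 T4_n_7,
 T4_n_8,
 T4_n_9]

theorem T4_n_ok : NetsOK 32 T4_n := netsOK_of (by decide +kernel)

theorem T4_n_rel : Rels (gp T4_n) T4_R := rels_of_relsB (k := 5) T4_n_ok (by norm_num) (by decide +kernel)

theorem T4_fin : finB 32 T4_n [1,2,3,7,8,9] 27 (runH 32 T4_n (fun x p => ptInv (nth Net.nil T4_n x) p) iv T4_R [] ([1,2,7,8,9].map fun x => [x]) 0 []
  (apd [1,5,9,13,17,0,4,8,12,16,20,28,44,48,56,60,64,68,76,80,24,28,36,48,52,56,60,64,68,24,28,32,36,40,44,48,56,60,68,72,76,80,24,32,36,40,48,60,72,76,80,24,36,44,48,52,56,68,80,28]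
 [36,60,64,72])
  (defsH 32 T4_n (ones 352) [3,2,1,7,8,9,1,2,3,7,1,2,9,1,7,8] (Nat.shiftLeft 1 0) 0)) = true := by decide +kernel

theorem T4_idx : Idx.{u} iv (T4_R ++ []) ([1,2,7,8,9].map fun x => [x]) [1,2,3,7,8,9] 27 :=
  Reach.idx T4_n_ok (reach_runH T4_n_ok (fun x p _ => ptInv_gp T4_n_ok x p) T4_n_rel (reach_defsH T4_n_ok _ _ _ _ _ _) _ _) T4_fin (by norm_num)

end Cfsg.Lib.Comp.Y5
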