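import Cfsg.Agent.Lib.Comp.Y5.Base

set_option maxRecDepth 100000
set_option Elab.async false

namespace Cfsg.Lib.Comp.Y5

universe u

noncomputable def T5_R : List (List ℕ × ℕ) := [([1],1),
 ([2],1),
 ([7],1),
 ([8],1),
 ([9],1),
 ([1,2],2),
 ([1,7],2),
 ([1,8],1),
 ([1,9],2),
 ([2,7],1),
 ([2,8],1),
 ([2,9],1),
 ([7,8],2),
 ([7,9],1),
 ([8,9],1)]

noncomputable def T5_n_1 : Net :=
 (Net.cons 2 (nat_lit 0x2002)
 (Net.cons 1 (nat_lit 0x4104)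
 (Net.cons 2 (nat_lit 0x2022)
 Net.nil)))

noncomputable def T5_n_2 : Net :=
 (Net.cons 8 (nat_lit 0xc0)
 (Net.cons 4 (nat_lit 0x400)
 (Net.cons 1 (nat_lit 0x54)
 (Net.cons 2 (nat_lit 0x100)
 (Net.cons 4 (nat_lit 0x400)
 (Net.cons 8 (nat_lit 0xc0)
 Net.nil))))))

noncomputable def T5_n_7 : Net :=
 (Net.cons 4 (nat_lit 0xc)
 (Net.cons 1 (nat_lit 0x1000)
 (Net.cons 2 (nat_lit 0x230)
 (Net.cons 4 (nat_lit 0xc)
 Net.nil))))

noncomputable def T5_n_8 : Net :=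
 (Net.cons 8 (nat_lit 0xa0)
 (Net.cons 4 (nat_lit 0x600)
 (Net.cons 1 (nat_lit 0x100)
 (Net.cons 2 (nat_lit 0x3010)
 (Net.cons 4 (nat_lit 0x600)
 (Net.cons 8 (nat_lit 0xa0)
 Net.nil))))))

noncomputable def T5_n_9 : Net :=
 (Net.cons 8 (nat_lit 0x80)
 (Net.cons 4 (nat_lit 0x600)
 (Net.cons 1 (nat_lit 0x5001)
 (Net.cons 2 (nat_lit 0x200)
 (Net.cons 4 (nat_lit 0x600)
 (Net.cons 8 (nat_lit 0x80)
 Net.nil))))))

noncomputable def T5_n : List Net := [Net.nil,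
 T5_n_1,
 T5_n_2,
 Net.nil,
 Net.nil,
 Net.nil,
 Net.nil,
 T5_n_7,
 T5_n_8,
 T5_n_9]

theorem T5_n_ok : NetsOK 16 T5_n := netsOK_of (by decide +kernel)

theorem T5_n_rel : Rels (gp T5_n) T5_R := rels_of_relsB (k := 4) T5_n_ok (by norm_num) (by decide +kernel)

theorem T5_fin : finB 16 T5_n [1,2,7,8,9] 16 (runH 16 T5_n (fun x p => ptInv (nth Net.nil T5_n x) p) iv T5_R [] ([1,2,7,8].map fun x => [x]) 0 []
  [1,5,9,13,0,4,8,12,16,28,32,36,40,44,52,56,20,24,28,32,40,48,52,56,20,24,28,32,36,40,44,20]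
  (defsH 16 T5_n (ones 176) [9,1,2,7,8,1,7,9,1,2] (Nat.shiftLeft 1 0) 0)) = true := by decide +kernel

theorem T5_idx : Idx.{u} iv (T5_R ++ []) ([1,2,7,8].map fun x => [x]) [1,2,7,8,9] 16 :=
  Reach.idx T5_n_ok (reach_runH T5_n_ok (fun x p _ => ptInv_gp T5_n_ok x p) T5_n_rel (reach_defsH T5_n_ok _ _ _ _ _ _) _ _) T5_fin (by norm_num)

end Cfsg.Lib.Comp.Y5
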