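import Cfsg.Agent.Lib.Comp.Y5.Base

set_option maxRecDepth 100000
set_option Elab.async false

namespace Cfsg.Lib.Comp.Y5

universe u

noncomputable def T8_R : List (List ℕ × ℕ) := [([7],1),
 ([8],1),
 ([7,8],2)]

noncomputable def T8_n_7 : Net :=
 (Net.cons 3 (nat_lit 0x6)
 (Net.cons 1 (nat_lit 0x8)
 (Net.cons 1 (nat_lit 0x12)
 (Net.cons 1 (nat_lit 0x1)
 (Net.cons 3 (nat_lit 0x1)
 Net.nil)))))

noncomputable def T8_n_8 : Net :=
 (Net.cons 3 (nat_lit 0x4)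
 (Net.cons 1 (nat_lit 0x1)
 (Net.cons 1 (nat_lit 0x12)
 (Net.cons 1 (nat_lit 0x8)
 (Net.cons 3 (nat_lit 0x3)
 Net.nil)))))

noncomputable def T8_n : List Net := [Net.nil,
 Net.nil,
 Net.nil,
 Net.nil,
 Net.nil,
 Net.nil,
 Net.nil,
 T8_n_7,
 T8_n_8]

theorem T8_n_ok : NetsOK 6 T8_n := netsOK_of (by decide +kernel)

theorem T8_n_rel : Rels (gp T8_n) T8_R := rels_of_relsB (k := 3) T8_n_ok (by norm_num) (by decide +kernel)

theorem T8_fin : finB 6 T8_n [7,8] 6 (runH 6 T8_n (fun x p => ptInv (nth Net.nil T8_n x) p) iv T8_R [] ([].map fun x => [x]) 0 []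
  [0,4,8]
  (defsH 6 T8_n (ones 66) [7,8,7] (Nat.shiftLeft 1 0) 0)) = true := by decide +kernel

theorem T8_idx : Idx.{u} iv (T8_R ++ []) ([].map fun x => [x]) [7,8] 6 :=
  Reach.idx T8_n_ok (reach_runH T8_n_ok (fun x p _ => ptInv_gp T8_n_ok x p) T8_n_rel (reach_defsH T8_n_ok _ _ _ _ _ _) _ _) T8_fin (by norm_num)

end Cfsg.Lib.Comp.Y5
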